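import Mathlib

namespace LatticeW15

theorem exists_sum_eq_gcd {r : ℕ} (d : Fin r → ℤ) (s : Finset (Fin r)) : ∃ t : Fin r → ℤ, ∑ i ∈ s, t i * d i = s.gcd d := by
  classical
  induction s using Finset.induction_on with
  | empty => exact ⟨0, by simp⟩
  | insert a s ha ih =>
    obtain ⟨t, ht⟩ := ih
    obtain ⟨x, y, hxy⟩ : ∃ x y : ℤ, x * d a + y * s.gcd d = gcd (d a) (s.gcd d) :=
      ⟨Int.gcdA (d a) (s.gcd d), Int.gcdB (d a) (s.gcd d), by rw [← Int.coe_gcd, Int.gcd_eq_gcd_ab]; ring⟩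
    refine ⟨fun i => if i = a then x else y * t i, ?_⟩
    rw [Finset.sum_insert ha, Finset.gcd_insert, ← hxy, ← ht, Finset.mul_sum]
    simp only [if_true]
    congr 1
    exact Finset.sum_congr rfl fun i hi => by rw [if_neg (ne_of_mem_of_not_mem hi ha), mul_assoc]

/-- coordinates in which `d` is `(D, 0)` -/
theorem exists_coords {r : ℕ} (hr : 0 < r) (d : Fin r → ℤ) :
    ∃ E : (Fin r → ℤ) ≃ₗ[ℤ] ℤ × (Fin (r - 1) → ℤ), E d = (Finset.univ.gcd d, 0) := by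
  classical
  obtain ⟨s, rfl⟩ : ∃ s, r = s + 1 := ⟨r - 1, by omega⟩
  obtain ⟨t, ht⟩ := exists_sum_eq_gcd d Finset.univ
  set D := Finset.univ.gcd d with hD
  by_cases hD0 : D = 0
  · have h0 : d = 0 := funext fun i => Finset.gcd_eq_zero_iff.1 hD0 i (Finset.mem_univ i)
    exact ⟨(Fin.consLinearEquiv ℤ (fun _ : Fin (s + 1) => ℤ)).symm, by rw [hD0, h0, map_zero]; rfl⟩
  choose v hv using fun i => Finset.gcd_dvd (f := d) (Finset.mem_univ i)
  rw [← hD] at hv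
  let u : (Fin (s + 1) → ℤ) →ₗ[ℤ] ℤ := ∑ i, t i • LinearMap.proj i
  have hu : ∀ x, u x = ∑ i, t i * x i := fun x => by simp [u]
  have huv : u v = 1 := by
    apply mul_left_cancel₀ hD0
    rw [hu, Finset.mul_sum, mul_one]
    refine Eq.trans ?_ ht
    exact Finset.sum_congr rfl fun i _ => by rw [hv i]; ring
  have hdv : d = D • v := funext fun i => by simp [hv i]
  let K := LinearMap.ker u
  let E₀ : (Fin (s + 1) → ℤ) ≃ₗ[ℤ] ℤ × K := LinearEquiv.ofLinear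
    (LinearMap.prod u ((LinearMap.id - u.smulRight v).codRestrict K fun x => by
      show u (x - u x • v) = 0
      rw [map_sub, map_smul, huv, smul_eq_mul, mul_one, sub_self]))
    (LinearMap.coprod (LinearMap.toSpanSingleton ℤ _ v) K.subtype)
    (LinearMap.ext fun p => by
      obtain ⟨n, w, hw⟩ := p
      have hw' : u w = 0 := hw
      refine Prod.ext ?_ (Subtype.ext ?_)
      · simp [huv, hw', map_zsmul, -zsmul_eq_mul]
      · simp [huv, hw', map_zsmul, -zsmul_eq_mul])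
    (LinearMap.ext fun x => by simp)
  haveI : Module.Free ℤ K := Module.Free.of_basis (Submodule.basisOfPid (Pi.basisFun ℤ (Fin (s + 1))) K).2
  have hfr : Module.finrank ℤ K = s := by
    have := E₀.finrank_eq
    rw [Module.finrank_pi, Fintype.card_fin, Module.finrank_prod, Module.finrank_self] at this
    omega
  let bK := Module.finBasisOfFinrankEq ℤ K hfr
  refine ⟨E₀.trans ((LinearEquiv.refl ℤ ℤ).prodCongr bK.equivFun), ?_⟩
  have h1 : E₀ d = (D, 0) := by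
    rw [hdv]
    refine Prod.ext ?_ (Subtype.ext ?_)
    · simp [E₀, huv, map_zsmul, -zsmul_eq_mul]
    · simp [E₀, huv, map_zsmul, -zsmul_eq_mul]
  simp [h1]

theorem exists_mul_gcd_iff (δ : ℕ) (c : ℤ) (a : ZMod δ) :
    (∃ n : ℤ, a = (n * c : ℤ)) ↔ ∃ n : ℤ, a = (n * (Int.gcd δ c : ℤ) : ℤ) := by
  constructor
  · rintro ⟨n, rfl⟩
    obtain ⟨q, hq⟩ := Int.gcd_dvd_right (δ : ℤ) c
    exact ⟨n * q, congrArg _ (by linear_combination n * hq)⟩
  · rintro ⟨n, rfl⟩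
    refine ⟨n * Int.gcdB δ c, ?_⟩
    rw [Int.gcd_eq_gcd_ab]; push_cast; rw [ZMod.natCast_self]; ring

theorem exists_mul_two_iff (δ : ℕ) (c e : ℤ) (a : ZMod δ) :
    (∃ p q : ℤ, a = (p * c + q * e : ℤ)) ↔ ∃ n : ℤ, a = (n * (Int.gcd δ (Int.gcd c e) : ℤ) : ℤ) := by
  rw [← exists_mul_gcd_iff]
  constructor
  · rintro ⟨p, q, rfl⟩
    obtain ⟨x, hx⟩ := Int.gcd_dvd_left c e
    obtain ⟨y, hy⟩ := Int.gcd_dvd_right c e
    exact ⟨p * x + q * y, congrArg _ (by linear_combination p * hx + q * hy)⟩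
  · rintro ⟨n, rfl⟩
    exact ⟨n * Int.gcdA c e, n * Int.gcdB c e, congrArg _ (by rw [Int.gcd_eq_gcd_ab]; ring)⟩

/-- the gcd of the weight group in adapted coordinates -/
theorem weight_group (r : ℕ) (hr : 0 < r) (δ : ℕ) (g : ℤ) (hδ : (δ : ℤ) ∣ 2 * (g - 1)) (d : Fin r → ℤ) :
    ∃ Ψ : ((Fin r → ℤ) →+ ZMod δ) ≃+ ZMod δ × (Fin (r - 1) → ZMod δ), ∀ φ,
      φ ∈ AddSubgroup.closure {φ : (Fin r → ℤ) →+ ZMod δ | ∃ b : LinearMap.BilinForm ℤ (Fin r → ℤ), b.IsSymm ∧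
        ∀ x, φ x = ((b d x + (1 - g) * b x x : ℤ) : ZMod δ)} ↔
      (∃ n : ℤ, (Ψ φ).1 = (n * (Int.gcd δ (Finset.univ.gcd d + 1 - g) : ℤ) : ℤ)) ∧
      ∀ j, ∃ n : ℤ, (Ψ φ).2 j = (n * (Int.gcd δ (Int.gcd (g - 1) (Finset.univ.gcd d)) : ℤ) : ℤ) := by
  classical
  obtain ⟨E, hE⟩ := exists_coords hr d
  set D := Finset.univ.gcd d
  let v : Fin r → ℤ := E.symm (1, 0)
  let w : Fin (r - 1) → (Fin r → ℤ) := fun j => E.symm (0, Pi.single j 1)
  have hx : ∀ x, x = (E x).1 • v + ∑ j, (E x).2 j • w j := by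
    intro x
    apply E.injective
    simp only [v, w, map_add, map_sum, map_smul, LinearEquiv.apply_symm_apply]
    refine Prod.ext ?_ (funext fun i => ?_)
    · simp [Prod.fst_sum]
    · simp [Prod.snd_sum, Pi.single_apply]
  let Ψ : ((Fin r → ℤ) →+ ZMod δ) ≃+ ZMod δ × (Fin (r - 1) → ZMod δ) :=
    { toFun := fun φ => (φ v, fun j => φ (w j))
      invFun := fun p =>
        { toFun := fun x => (E x).1 • p.1 + ∑ j, (E x).2 j • p.2 j
          map_zero' := by simp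
          map_add' := fun x y => by simp [add_smul, Finset.sum_add_distrib]; abel }
      left_inv := fun φ => by
        refine AddMonoidHom.ext fun x => ?_
        conv_rhs => rw [hx x]
        simp [map_zsmul, -zsmul_eq_mul]
      right_inv := fun p => by
        refine Prod.ext ?_ (funext fun i => ?_)
        · simp [v]
        · simp [w, Pi.single_apply, ite_smul]
      map_add' := fun φ ψ => rfl }
  refine ⟨Ψ, fun φ => ?_⟩
  have hdv : d = D • v := E.injective (by simp [v, hE, map_zsmul, -zsmul_eq_mul])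
  let T : AddSubgroup (ZMod δ × (Fin (r - 1) → ZMod δ)) :=
    { carrier := {p | (∃ n : ℤ, p.1 = (n * (Int.gcd δ (D + 1 - g) : ℤ) : ℤ)) ∧
        ∀ j, ∃ n : ℤ, p.2 j = (n * (Int.gcd δ (Int.gcd (g - 1) D) : ℤ) : ℤ)}
      zero_mem' := ⟨⟨0, by simp⟩, fun j => ⟨0, by simp⟩⟩
      add_mem' := fun {a b} ha hb => by
        obtain ⟨⟨n, hn⟩, h⟩ := ha
        obtain ⟨⟨n', hn'⟩, h'⟩ := hb
        refine ⟨⟨n + n', by simp [hn, hn', add_mul]⟩, fun j => ?_⟩
        obtain ⟨x, hx⟩ := h j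
        obtain ⟨x', hx'⟩ := h' j
        exact ⟨x + x', by simp [hx, hx', add_mul]⟩
      neg_mem' := fun {a} ha => by
        obtain ⟨⟨n, hn⟩, h⟩ := ha
        refine ⟨⟨-n, by simp [hn]⟩, fun j => ?_⟩
        obtain ⟨x, hx⟩ := h j
        exact ⟨-x, by simp [hx]⟩ }
  constructor
  · intro hφ
    refine (AddSubgroup.closure_le (K := T.comap Ψ.toAddMonoidHom)).2 ?_ hφ
    rintro ψ ⟨b, hb, hψ⟩
    refine ⟨(exists_mul_gcd_iff _ _ _).1 ⟨b v v, ?_⟩, fun j => (exists_mul_two_iff _ _ _ _).1 ⟨-b (w j) (w j), b v (w j), ?_⟩⟩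
    · show ψ v = _
      rw [hψ, hdv]
      congr 1
      simp only [map_smul, LinearMap.smul_apply, smul_eq_mul]; ring
    · show ψ (w j) = _
      rw [hψ, hdv]
      congr 1
      simp only [map_smul, LinearMap.smul_apply, smul_eq_mul]; ring
  · rintro ⟨hn, hj⟩
    obtain ⟨n, hn⟩ := (exists_mul_gcd_iff _ _ _).2 hn
    choose q p hpq using fun j => (exists_mul_two_iff _ _ _ _).2 (hj j)
    let c : (Fin r → ℤ) →ₗ[ℤ] ℤ := (LinearMap.fst ℤ _ _).comp E.toLinearMap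
    let e : Fin (r - 1) → (Fin r → ℤ) →ₗ[ℤ] ℤ := fun j =>
      (LinearMap.proj j).comp ((LinearMap.snd ℤ _ _).comp E.toLinearMap)
    let B : LinearMap.BilinForm ℤ (Fin r → ℤ) := n • (LinearMap.mul ℤ ℤ).compl₁₂ c c +
      ∑ j, (p j • ((LinearMap.mul ℤ ℤ).compl₁₂ c (e j) + (LinearMap.mul ℤ ℤ).compl₁₂ (e j) c) +
        (-q j) • (LinearMap.mul ℤ ℤ).compl₁₂ (e j) (e j))
    have hB : ∀ x y, B x y = n * ((E x).1 * (E y).1) + ∑ j, (p j * ((E x).1 * (E y).2 j + (E x).2 j * (E y).1) +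
        (-q j) * ((E x).2 j * (E y).2 j)) := fun x y => by
      simp [B, c, e, LinearMap.sum_apply, mul_add]
    have hs : B.IsSymm := ⟨fun x y => by
      rw [hB, hB]
      exact congrArg₂ (· + ·) (by ring) (Finset.sum_congr rfl fun j _ => by ring)⟩
    obtain ⟨z, hz⟩ := hδ
    let ψ : (Fin r → ℤ) →+ ZMod δ :=
      { toFun := fun x => ((B d x + (1 - g) * B x x : ℤ) : ZMod δ)
        map_zero' := by simp
        map_add' := fun x y => by
          rw [← Int.cast_add, ZMod.intCast_eq_intCast_iff_dvd_sub]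
          refine ⟨z * B x y, ?_⟩
          have hsy : B y x = B x y := hs.eq y x
          simp only [map_add, LinearMap.add_apply, hsy]
          linear_combination (B x y) * hz }
    have hψ : ψ ∈ AddSubgroup.closure {φ : (Fin r → ℤ) →+ ZMod δ | ∃ b : LinearMap.BilinForm ℤ (Fin r → ℤ), b.IsSymm ∧
        ∀ x, φ x = ((b d x + (1 - g) * b x x : ℤ) : ZMod δ)} := AddSubgroup.subset_closure ⟨B, hs, fun x => rfl⟩
    suffices φ = ψ by rw [this]; exact hψ
    apply Ψ.injective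
    refine Prod.ext ?_ (funext fun j => ?_)
    · rw [hn]
      show _ = ((B d v + (1 - g) * B v v : ℤ) : ZMod δ)
      congr 1
      rw [hB, hB, hE]
      simp [v]; ring
    · rw [hpq j]
      show _ = ((B d (w j) + (1 - g) * B (w j) (w j) : ℤ) : ZMod δ)
      congr 1
      rw [hB, hB, hE]
      simp [w, Pi.single_apply]; ring

theorem exists_incl (δ g : ℕ) (hg : g ∣ δ) (hδ : δ ≠ 0) : ∃ f : ZMod (δ / g) →+ ZMod δ, Function.Injective f ∧
    ∀ a : ZMod δ, a ∈ f.range ↔ ∃ n : ℤ, a = (n * (g : ℤ) : ℤ) := by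
  obtain ⟨q, rfl⟩ := hg
  have hg0 : g ≠ 0 := fun h => hδ (by simp [h])
  rw [Nat.mul_div_cancel_left q (Nat.pos_of_ne_zero hg0)]
  let h : ℤ →+ ZMod (g * q) := (Int.castAddHom _).comp (AddMonoidHom.mulRight (g : ℤ))
  have hh : h q = 0 := by
    show (((q : ℤ) * g : ℤ) : ZMod (g * q)) = 0
    rw [mul_comm, ← Nat.cast_mul, Int.cast_natCast, ZMod.natCast_self]
  refine ⟨ZMod.lift q ⟨h, hh⟩, ?_, fun a => ⟨?_, ?_⟩⟩
  · rw [injective_iff_map_eq_zero]
    intro a ha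
    obtain ⟨x, rfl⟩ := ZMod.intCast_surjective a
    rw [ZMod.lift_coe] at ha
    have h1 : ((g * q : ℕ) : ℤ) ∣ x * g := (ZMod.intCast_zmod_eq_zero_iff_dvd _ _).1 ha
    rw [Nat.cast_mul, mul_comm x] at h1
    exact (ZMod.intCast_zmod_eq_zero_iff_dvd _ _).2 ((mul_dvd_mul_iff_left (by exact_mod_cast hg0)).1 h1)
  · rintro ⟨b, rfl⟩
    obtain ⟨x, rfl⟩ := ZMod.intCast_surjective b
    exact ⟨x, by rw [ZMod.lift_coe]; rfl⟩
  · rintro ⟨n, rfl⟩
    exact ⟨n, by rw [ZMod.lift_coe]; rfl⟩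

end LatticeW15
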